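import Groth.Agent.KZ.Derived
import Mathlib.Algebra.Homology.HomotopyCategory.Pretriangulated
import Mathlib.Algebra.Homology.HomologicalComplexAbelian

/-!
# K₀ of perfect objects: bounded complexes of an exact class of objects admitting roofs
-/

universe w v u

open CategoryTheory CategoryTheory.Limits CategoryTheory.Pretriangulated ZeroObject

namespace Groth.Agent.H1KZV

open Groth.Agent.KZ (clSub_iso clSub_ses clSub_isZero clSub_kernel_exact finsum_negOnePow_telescope kerSeq_shortExact clTr_triangle clTr_isZero clTr_iso clTr_of_prop exists_liftSub exists_liftTr K0sub_hom_ext)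

variable {C : Type u} [Category.{v} C] [Abelian C]

/-- A class of objects suitable for Euler characteristics. -/
structure ExClass (P : ObjectProperty C) : Prop where
  iso : ∀ {X Y : C}, (X ≅ Y) → P X → P Y
  zero : ∀ X, IsZero X → P X
  biprod : ∀ X Y, P X → P Y → P (X ⊞ Y)
  ker : ∀ S : ShortComplex C, S.ShortExact → P S.X₂ → P S.X₃ → P S.X₁

/-- Bounded complexes with terms in `P`. -/
def BdP (P : ObjectProperty C) (E : CochainComplex C ℤ) : Prop :=
  (∀ i, P (E.X i)) ∧ ∃ a b : ℤ, ∀ i, i < a ∨ b < i → IsZero (E.X i)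

/-- Euler characteristic of a complex. -/
noncomputable def chiCx (P : ObjectProperty C) (E : CochainComplex C ℤ) : KZero.K0sub P :=
  ∑ᶠ i : ℤ, ((i.negOnePow : ℤˣ) : ℤ) • KZero.clSub P (E.X i)

variable {P : ObjectProperty C}

lemma BdP.finite {E : CochainComplex C ℤ} (hE : BdP P E) :
    (Function.support fun i : ℤ => KZero.clSub P (E.X i)).Finite := by
  obtain ⟨-, a, b, h⟩ := hE
  refine (Set.finite_Icc a b).subset fun i hi => ?_
  by_contra hc
  rw [Set.mem_Icc, not_and_or, not_le, not_le] at hc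
  exact hi (clSub_isZero P (h i hc))

lemma BdP.finite' {E : CochainComplex C ℤ} (hE : BdP P E) :
    (Function.support fun i : ℤ => ((i.negOnePow : ℤˣ) : ℤ) • KZero.clSub P (E.X i)).Finite :=
  hE.finite.subset (fun i hi h => hi (by simp [h]))

lemma BdP.cone (hP : ExClass P) {E F : CochainComplex C ℤ} (hE : BdP P E) (hF : BdP P F)
    (f : E ⟶ F) : BdP P (CochainComplex.mappingCone f) := by
  obtain ⟨hE1, a, b, hE2⟩ := hE
  obtain ⟨hF1, a', b', hF2⟩ := hF
  refine ⟨fun i => hP.iso (HomologicalComplex.homotopyCofiber.XIsoBiprod f i (i + 1) rfl).symm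
    (hP.biprod _ _ (hE1 _) (hF1 _)), min (a - 1) a', max b b', fun i hi => ?_⟩
  rw [CochainComplex.mappingCone.isZero_X_iff]
  exact ⟨hE2 _ (by omega), hF2 _ (by omega)⟩

lemma chiCx_cone (hP : ExClass P) {E F : CochainComplex C ℤ} (hE : BdP P E) (hF : BdP P F)
    (f : E ⟶ F) :
    chiCx P (CochainComplex.mappingCone f) = chiCx P F - chiCx P E := by
  let G : ℤ → KZero.K0sub P := fun i => ((i.negOnePow : ℤˣ) : ℤ) • KZero.clSub P (E.X i)
  have h : ∀ i : ℤ, ((i.negOnePow : ℤˣ) : ℤ) •
      KZero.clSub P ((CochainComplex.mappingCone f).X i) =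
      ((i.negOnePow : ℤˣ) : ℤ) • KZero.clSub P (F.X i) + -G (i + 1) := by
    intro i
    have hb : P (E.X (i + 1) ⊞ F.X i) := hP.biprod _ _ (hE.1 _) (hF.1 _)
    rw [show KZero.clSub P ((CochainComplex.mappingCone f).X i) = _ from
        clSub_iso P (HomologicalComplex.homotopyCofiber.XIsoBiprod f i (i + 1) rfl)
          ((hE.cone hP hF f).1 i) hb (isZero_zero C) (hP.zero _ (isZero_zero C)),
      show KZero.clSub P (E.X (i + 1) ⊞ F.X i) = _ from
        clSub_ses P (ShortComplex.Splitting.ofHasBinaryBiproduct (E.X (i + 1)) (F.X i)).shortExact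
          (hE.1 _) hb (hF.1 _)]
    simp [G, Int.negOnePow_succ, smul_add]
    abel
  have hG : (Function.support fun i => -G (i + 1)).Finite :=
    (hE.finite'.image (fun j => j - 1)).subset (fun i hi => ⟨i + 1, by simpa [G] using hi, by simp⟩)
  rw [chiCx, finsum_congr h, finsum_add_distrib hF.finite' hG, finsum_neg_distrib, ← sub_eq_add_neg]
  congr 1
  exact finsum_comp_equiv (Equiv.addRight (1 : ℤ)) (f := G)

lemma chiCx_acyclic (hP : ExClass P) {E : CochainComplex C ℤ} (hE : BdP P E)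
    (hex : ∀ i, E.ExactAt i) : chiCx P E = 0 := by
  have hE' := hE
  obtain ⟨hE1, a, b, hE2⟩ := hE
  have hS : ∀ i, (ShortComplex.mk (E.d i (i + 1)) (E.d (i + 1) (i + 1 + 1))
      (E.d_comp_d ..)).Exact := fun i =>
    (E.exactAt_iff' i (i + 1) (i + 1 + 1) (by simp) (by simp)).1 (hex (i + 1))
  have hZ : ∀ (n : ℕ) (i : ℤ), b + 1 ≤ i + (n : ℤ) → P (kernel (E.d i (i + 1))) := by
    intro n
    induction n with
    | zero =>
      intro i hi
      exact hP.zero _ (IsZero.of_mono (kernel.ι _) (hE2 i (Or.inr (by push_cast at hi; omega))))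
    | succ n ih =>
      intro i hi
      have h' := ih (i + 1) (by push_cast at hi ⊢; omega)
      let l := kernel.lift (E.d (i + 1) (i + 1 + 1)) (E.d i (i + 1)) (E.d_comp_d ..)
      have : Epi l := (hS i).epi_kernelLift
      have := hP.ker _ (kerSeq_shortExact l) (hE1 i) h'
      refine hP.iso ?_ this
      exact (kernelCompMono l (kernel.ι _)).symm ≪≫ kernelIsoOfEq (kernel.lift_ι ..)
  have hp : ∀ i, P (kernel (E.d i (i + 1))) := fun i => hZ ((b + 1 - i).toNat) i (by omega)
  let z : ℤ → KZero.K0sub P := fun i => KZero.clSub P (kernel (E.d i (i + 1)))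
  have he : ∀ i, KZero.clSub P (E.X i) = z i + z (i + 1) := fun i =>
    clSub_kernel_exact P _ _ _ (hS i) (hp i) (hE1 i) (hp (i + 1))
  rw [chiCx]
  simp only [he]
  refine finsum_negOnePow_telescope z ?_
  refine (Set.finite_Icc a b).subset fun i hi => ?_
  by_contra hc
  rw [Set.mem_Icc, not_and_or, not_le, not_le] at hc
  exact hi (clSub_isZero P (IsZero.of_mono (kernel.ι _) (hE2 i hc)))

variable [HasDerivedCategory.{w} C]

open DerivedCategory

/-- Every morphism in the derived category between complexes in the class is a roof of such complexes. -/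
def Roofs (P : ObjectProperty C) : Prop :=
  ∀ (E F : CochainComplex C ℤ), BdP P E → BdP P F → ∀ u : Q.obj E ⟶ Q.obj F,
    ∃ (G : CochainComplex C ℤ) (g : G ⟶ E) (h : G ⟶ F), BdP P G ∧ QuasiIso g ∧ Q.map g ≫ u = Q.map h

/-- Objects represented by bounded complexes with terms in `P`. -/
def IsPerf (P : ObjectProperty C) (K : DerivedCategory C) : Prop :=
  ∃ E, BdP P E ∧ Nonempty (Q.obj E ≅ K)

lemma chiCx_eq_of_isIso (hP : ExClass P) {E F : CochainComplex C ℤ} (hE : BdP P E) (hF : BdP P F)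
    (f : E ⟶ F) [IsIso (Q.map f)] : chiCx P E = chiCx P F := by
  have h0 : IsZero (Q.obj (CochainComplex.mappingCone f)) := by
    refine Triangle.isZero₃_of_isIso₁ (Q.mapTriangle.obj (CochainComplex.mappingCone.triangle f))
      ((mem_distTriang_iff _).2 ⟨_, _, f, ⟨Iso.refl _⟩⟩) ?_
    show IsIso (Q.map f)
    infer_instance
  have hex : ∀ i, (CochainComplex.mappingCone f).ExactAt i := fun i => by
    rw [HomologicalComplex.exactAt_iff_isZero_homology]
    exact ((homologyFunctor C i).map_isZero h0).of_iso ((homologyFunctorFactors C i).app _).symm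
  have := (chiCx_cone hP hE hF f).symm.trans (chiCx_acyclic hP (hE.cone hP hF f) hex)
  exact (sub_eq_zero.1 this).symm

lemma chiCx_eq_of_iso (hP : ExClass P) (hr : Roofs P) {E F : CochainComplex C ℤ} (hE : BdP P E)
    (hF : BdP P F) (e : Q.obj E ≅ Q.obj F) : chiCx P E = chiCx P F := by
  obtain ⟨G, g, h, hG, _, hgh⟩ := hr E F hE hF e.hom
  haveI : IsIso (Q.map g) := inferInstance
  haveI : IsIso (Q.map h) := by rw [← hgh]; infer_instance
  rw [← chiCx_eq_of_isIso hP hG hE g, ← chiCx_eq_of_isIso hP hG hF h]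

open Classical in
/-- Euler characteristic of a perfect object. -/
noncomputable def chiD (P : ObjectProperty C) (K : DerivedCategory C) : KZero.K0sub P :=
  if h : IsPerf P K then chiCx P h.choose else 0

lemma chiD_eq (hP : ExClass P) (hr : Roofs P) {E : CochainComplex C ℤ} (hE : BdP P E) {K : DerivedCategory C}
    (e : Q.obj E ≅ K) : chiD P K = chiCx P E := by
  have h : IsPerf P K := ⟨E, hE, ⟨e⟩⟩
  rw [chiD, dif_pos h]
  exact chiCx_eq_of_iso hP hr h.choose_spec.1 hE (h.choose_spec.2.some ≪≫ e.symm)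

lemma chiD_triangle (hP : ExClass P) (hr : Roofs P) {T : Triangle (DerivedCategory C)} (hT : T ∈ distTriang _)
    (h₁ : IsPerf P T.obj₁) (h₂ : IsPerf P T.obj₂) :
    chiD P T.obj₂ = chiD P T.obj₁ + chiD P T.obj₃ := by
  obtain ⟨E, hE, ⟨e⟩⟩ := h₁
  obtain ⟨F, hF, ⟨e'⟩⟩ := h₂
  obtain ⟨G, g, f, hG, _, hf⟩ := hr E F hE hF (e.hom ≫ T.mor₁ ≫ e'.inv)
  haveI : IsIso (Q.map g) := inferInstance
  rename' e => e₀
  let e : Q.obj G ≅ T.obj₁ := asIso (Q.map g) ≪≫ e₀
  let i := isoTriangleOfIso₁₂ (Q.mapTriangle.obj (CochainComplex.mappingCone.triangle f)) T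
    ((mem_distTriang_iff _).2 ⟨_, _, f, ⟨Iso.refl _⟩⟩) hT e e'
    (by
      show Q.map f ≫ e'.hom = e.hom ≫ T.mor₁
      rw [← hf]; simp [e])
  rw [chiD_eq hP hr hG e, chiD_eq hP hr hF e',
    chiD_eq hP hr (hG.cone hP hF f) (K := T.obj₃) (Triangle.π₃.mapIso i), chiCx_cone hP hG hF f]
  abel

lemma BdP.single (hP : ExClass P) {X : C} (hX : P X) (n : ℤ) :
    BdP P ((HomologicalComplex.single C (ComplexShape.up ℤ) n).obj X) := by
  refine ⟨fun i => ?_, n, n, fun i hi => HomologicalComplex.isZero_single_obj_X _ _ _ _ (by omega)⟩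
  by_cases h : i = n
  · subst h; exact hP.iso (HomologicalComplex.singleObjXSelf _ i X).symm hX
  · exact hP.zero _ (HomologicalComplex.isZero_single_obj_X _ _ _ _ h)

lemma chiD_single (hP : ExClass P) (hr : Roofs P) {X : C} (hX : P X) :
    chiD P ((singleFunctor C 0).obj X) = KZero.clSub P X := by
  rw [chiD_eq hP hr (BdP.single hP hX 0) (K := (singleFunctor C 0).obj X) (Iso.refl _), chiCx, finsum_eq_single _ (0 : ℤ)]
  · simp only [Int.negOnePow_zero, Units.val_one, one_smul]
    exact clSub_iso P (HomologicalComplex.singleObjXSelf _ 0 X) ((BdP.single hP hX 0).1 0) hX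
      (isZero_zero C) (hP.zero _ (isZero_zero C))
  · intro i hi
    rw [clSub_isZero P (HomologicalComplex.isZero_single_obj_X _ _ _ _ hi), smul_zero]

variable (R : ObjectProperty (DerivedCategory C)) (hR : ∀ K, R K ↔ IsPerf P K)
include hR

lemma clTr_single_perf (hP : ExClass P) {X : C} (hX : P X) (n : ℤ) :
    KZero.clTr R ((singleFunctor C n).obj X) =
      ((n.negOnePow : ℤˣ) : ℤ) • KZero.clTr R ((singleFunctor C 0).obj X) := by
  have hq : ∀ m, R ((singleFunctor C m).obj X) := fun m =>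
    (hR _).2 ⟨_, BdP.single hP hX m, ⟨Iso.refl _⟩⟩
  have hz : R (0 : DerivedCategory C) := (hR _).2
    ⟨_, BdP.single hP (hP.zero _ (isZero_zero C)) 0,
      ⟨((singleFunctor C 0).map_isZero (isZero_zero C)).iso (isZero_zero _)⟩⟩
  have step : ∀ m : ℤ, KZero.clTr R ((singleFunctor C m).obj X) =
      -KZero.clTr R ((singleFunctor C (m + 1)).obj X) := by
    intro m
    have e : ((singleFunctor C (m + 1)).obj X)⟦(1 : ℤ)⟧ ≅ (singleFunctor C m).obj X :=
      ((singleFunctors C).shiftIso 1 m (m + 1) (add_comm 1 m)).app X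
    have hs : R (((singleFunctor C (m + 1)).obj X)⟦(1 : ℤ)⟧) :=
      (hR _).2 ⟨_, BdP.single hP hX m, ⟨e.symm⟩⟩
    have h1 := clTr_triangle R (rot_of_distTriang _
      (contractible_distinguished ((singleFunctor C (m + 1)).obj X))) (hq _) hz hs
    change KZero.clTr R (0 : DerivedCategory C) = KZero.clTr R ((singleFunctor C (m + 1)).obj X) +
      KZero.clTr R (((singleFunctor C (m + 1)).obj X)⟦(1 : ℤ)⟧) at h1
    rw [clTr_isZero R (isZero_zero _)] at h1
    rw [← clTr_iso R e hs (hq m) (isZero_zero _) hz]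
    exact eq_neg_of_add_eq_zero_right h1.symm
  induction n using Int.induction_on with
  | zero => simp
  | succ i ih =>
    rw [step (i : ℤ), neg_eq_iff_eq_neg] at ih
    rw [ih, Int.negOnePow_succ]
    simp
  | pred i ih =>
    have h : -(i : ℤ) - 1 + 1 = -(i : ℤ) := by ring
    rw [step (-(i : ℤ) - 1), h, ih]
    conv_lhs => rw [← h, Int.negOnePow_succ]
    simp

lemma clTr_mem_range (hP : ExClass P) (φ : KZero.K0sub P →+ KZero.K0tr R)
    (hφ : ∀ X, P X → φ (KZero.clSub P X) = KZero.clTr R ((singleFunctor C 0).obj X)) :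
    ∀ (n : ℕ) (E : CochainComplex C ℤ) (a : ℤ), (∀ i, P (E.X i)) →
      (∀ i, i < a ∨ a + (n : ℤ) ≤ i → IsZero (E.X i)) →
      KZero.clTr R (Q.obj E) ∈ φ.range := by
  intro n
  induction n with
  | zero =>
    intro E a _ hz
    have : IsZero E := by
      rw [IsZero.iff_id_eq_zero]
      ext i
      exact (hz i (by omega)).eq_of_src _ _
    rw [clTr_isZero R (Q.map_isZero this)]
    exact zero_mem _
  | succ n ih =>
    intro E a hE hz
    let b : ℤ := a + (n : ℤ)
    let ι : (HomologicalComplex.single C (ComplexShape.up ℤ) b).obj (E.X b) ⟶ E :=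
      HomologicalComplex.mkHomFromSingle (𝟙 _) (fun k hk => by
        rw [Category.id_comp]
        exact (hz k (by simp at hk; push_cast; omega)).eq_of_tgt _ _)
    have hm : ∀ i, Mono (ι.f i) := fun i => by
      by_cases hi : i = b
      · subst hi; simp [ι]; infer_instance
      · exact ⟨fun g h _ => (HomologicalComplex.isZero_single_obj_X _ _ _ _ hi).eq_of_tgt g h⟩
    have : Mono ι := HomologicalComplex.mono_of_mono_f ι hm
    let S : ShortComplex (CochainComplex C ℤ) := ShortComplex.mk ι (cokernel.π ι) (cokernel.condition ι)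
    have hS : S.ShortExact :=
      { exact := S.exact_of_g_is_cokernel (cokernelIsCokernel ι) }
    have hSi : ∀ i, (S.map (HomologicalComplex.eval C (ComplexShape.up ℤ) i)).ShortExact :=
      fun i => hS.map_of_exact _
    have hzb : IsZero ((cokernel ι).X b) := by
      have := (hSi b).epi_g
      have : Epi (ι.f b) := by simp [ι]; infer_instance
      refine IsZero.of_epi_eq_zero ((cokernel.π ι).f b) ?_
      rw [← cancel_epi (ι.f b), ← HomologicalComplex.comp_f, cokernel.condition]
      simp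
    have hother : ∀ i, i ≠ b → IsIso ((cokernel.π ι).f i) := fun i hi =>
      (hSi i).isIso_g_iff.2 (HomologicalComplex.isZero_single_obj_X (ComplexShape.up ℤ) b (E.X b) i hi)
    have hc : ∀ i, P ((cokernel ι).X i) := fun i => by
      by_cases hi : i = b
      · subst hi; exact hP.zero _ hzb
      · have := hother i hi
        exact hP.iso (asIso ((cokernel.π ι).f i)) (hE i)
    have hcz : ∀ i, i < a ∨ a + (n : ℤ) ≤ i → IsZero ((cokernel ι).X i) := fun i hi => by
      by_cases hib : i = b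
      · subst hib; exact hzb
      · have := hother i hib
        exact (hz i (by push_cast; omega)).of_iso (asIso ((cokernel.π ι).f i)).symm
    have p1 : R (Q.obj ((HomologicalComplex.single C (ComplexShape.up ℤ) b).obj (E.X b))) :=
      (hR _).2 ⟨_, BdP.single hP (hE b) b, ⟨Iso.refl _⟩⟩
    have p2 : R (Q.obj E) := (hR _).2
      ⟨E, ⟨hE, a, b, fun i hi => hz i (by push_cast; omega)⟩, ⟨Iso.refl _⟩⟩
    have p3 : R (Q.obj (cokernel ι)) := (hR _).2
      ⟨_, ⟨hc, a, b, fun i hi => hcz i (by omega)⟩, ⟨Iso.refl _⟩⟩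
    have := clTr_triangle R (triangleOfSES_distinguished hS) p1 p2 p3
    change KZero.clTr R (Q.obj E) = KZero.clTr R (Q.obj _) + KZero.clTr R (Q.obj (cokernel ι)) at this
    rw [this]
    refine add_mem ?_ (ih _ a hc hcz)
    change KZero.clTr R ((singleFunctor C b).obj (E.X b)) ∈ φ.range
    rw [clTr_single_perf R hR hP (hE b) b, ← hφ _ (hE b)]
    exact zsmul_mem (show φ _ ∈ φ.range from ⟨_, rfl⟩) _

theorem exists_equiv_perf (hP : ExClass P) (hr : Roofs P) :
    ∃ φ : KZero.K0sub P ≃+ KZero.K0tr R,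
      (∀ X, P X → φ (KZero.clSub P X) = KZero.clTr R ((singleFunctor C 0).obj X)) ∧
      ∀ E, BdP P E → φ.symm (KZero.clTr R (Q.obj E)) = chiCx P E := by
  obtain ⟨φ, hφ⟩ := exists_liftSub P (fun X => KZero.clTr R ((singleFunctor C 0).obj X))
    (fun S hS a b c => by
      refine clTr_triangle R hS.singleTriangle_distinguished ?_ ?_ ?_
      · exact (hR _).2 ⟨_, BdP.single hP a 0, ⟨Iso.refl _⟩⟩
      · exact (hR _).2 ⟨_, BdP.single hP b 0, ⟨Iso.refl _⟩⟩
      · exact (hR _).2 ⟨_, BdP.single hP c 0, ⟨Iso.refl _⟩⟩)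
  obtain ⟨ψ, hψ⟩ := exists_liftTr R (chiD P)
    (fun T hT a b _ => chiD_triangle hP hr hT ((hR _).1 a) ((hR _).1 b))
  have h1 : ψ.comp φ = AddMonoidHom.id _ := by
    refine K0sub_hom_ext P fun X hX => ?_
    rw [AddMonoidHom.comp_apply, hφ X hX, hψ ((singleFunctor C 0).obj X) ((hR _).2 ⟨_, BdP.single hP hX 0, ⟨Iso.refl _⟩⟩),
      chiD_single hP hr hX]
    rfl
  have hsurj : Function.Surjective φ := fun y => by
    refine QuotientAddGroup.induction_on y fun z => ?_
    change _ ∈ φ.range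
    induction z using FreeAbelianGroup.induction_on with
    | zero => exact zero_mem _
    | of X =>
      rw [← clTr_of_prop R X.2]
      obtain ⟨E, hE, ⟨e⟩⟩ := (hR _).1 X.2
      have hz : R (0 : DerivedCategory C) := (hR _).2
        ⟨_, BdP.single hP (hP.zero _ (isZero_zero C)) 0,
          ⟨((singleFunctor C 0).map_isZero (isZero_zero C)).iso (isZero_zero _)⟩⟩
      rw [← clTr_iso R e ((hR _).2 ⟨E, hE, ⟨Iso.refl _⟩⟩) X.2 (isZero_zero _) hz]
      obtain ⟨hE1, a, b, hE2⟩ := hE
      exact clTr_mem_range R hR hP φ hφ ((b - a + 1).toNat) E a hE1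
        (fun i hi => hE2 i (by omega))
    | neg X hX => exact neg_mem hX
    | add a b ha hb => exact add_mem ha hb
  have hinj : Function.Injective φ := fun x y hxy => by
    have := congrArg ψ hxy
    rwa [← AddMonoidHom.comp_apply, ← AddMonoidHom.comp_apply, h1] at this
  refine ⟨AddEquiv.ofBijective φ ⟨hinj, hsurj⟩, hφ, fun E hE => ?_⟩
  rw [AddEquiv.symm_apply_eq]
  obtain ⟨x, hx⟩ := hsurj (KZero.clTr R (Q.obj E))
  rw [← chiD_eq hP hr hE (Iso.refl _), ← hψ _ ((hR _).2 ⟨E, hE, ⟨Iso.refl _⟩⟩), ← hx,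
    ← AddMonoidHom.comp_apply, h1]
  rfl

end Groth.Agent.H1KZV
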